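import Cfsg.Agent.H167.KKL.DefsE8
import Cfsg.Agent.H892.ElReg
import Cfsg.Agent.ChevalleyStructure.NSimpleAll

/-!
# S4546, row `E₈(q)`, box P4 (helper582): the trace of the representatives of `w_{D4}`

* `Mono hp w X` : the shape of the matrix of a representative of `w` (the Cartan block is `w`, the root vectors are permuted
  up to scalars by `w`);
* `mono_of_rp` : representatives of `w` have this shape;
* `P4` : the sum of the traces of `n v`, `v ∈ ⟨z, z'⟩`, is zero.
-/

set_option autoImplicit false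

namespace Cfsg.Agent.H582.KKL

open CoxeterSystem Cfsg Cfsg.Lie Cfsg.Lie.ChevalleyDatum
open Cfsg.Agent.ChevalleyStructure Cfsg.Agent.ChevalleyStructure.Elts Cfsg.Agent.ChevalleyStructure.CoxeterGeom
  Cfsg.Agent.ChevalleyStructure.CoxeterGeomTypes Cfsg.Agent.ChevalleyStructure.NPerm
open Cfsg.Agent.Tits.Roots Cfsg.Agent.Tits.Core Cfsg.Agent.Nodes Cfsg.Agent.Nodes.Reps Cfsg.Agent.Nodes.BNOf
  Cfsg.Agent.Nodes.RGDChev Cfsg.Agent.Nodes.Bruhat
open Cfsg.Agent.KFacts.RgdField Cfsg.Agent.KFacts.RgdChevCoord Cfsg.Agent.BpExc.TorCent Cfsg.Agent.BpExc.TorChev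
open Cfsg.Agent.GpExc.Field Cfsg.Agent.BpExc.Tow Cfsg.Agent.BpExc.TowChev
open Cfsg.Agent.H167.KKL

universe u

/-- the nodes of the datum are `Fin 8` -/
def f8 (i : Fin chevE8.rank) : Fin 8 := i

theorem sum_f8 {R : Type*} [AddCommMonoid R] (F : Fin 8 → R) : ∑ c : Fin chevE8.rank, F (f8 c) = ∑ c : Fin 8, F c := rfl

theorem f8_inj {i j : Fin chevE8.rank} (h : f8 i = f8 j) : i = j := h

theorem f8_val (i : Fin chevE8.rank) : ((f8 i : Fin 8) : ℕ) = (i : ℕ) := rfl

/-- the Coxeter system -/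
local notation "cs₈" => CoxeterMatrix.toCoxeterSystem CoxeterMatrix.E₈

variable (hp : IsType chevE8 8 CoxeterMatrix.E₈) {k : Type u} [Field k]

/-- the shape of the matrix of a representative of `w` -/
structure Mono (w : CoxeterMatrix.E₈.Group) (X : Matrix chevE8.Idx chevE8.Idx k) : Prop where
  ll : ∀ i j : Fin chevE8.rank, X (Sum.inl i) (Sum.inl j) = ((rep cs₈ hp.isCartan w (sr (f8 j)) (f8 i) : ℤ) : k)
  rl : ∀ (s : Fin chevE8.nroots) (j : Fin chevE8.rank), X (Sum.inr s) (Sum.inl j) = 0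
  lr : ∀ (j : Fin chevE8.rank) (s : Fin chevE8.nroots), X (Sum.inl j) (Sum.inr s) = 0
  rr : ∀ s s' : Fin chevE8.nroots, vec chevE8 8 s ≠ rep cs₈ hp.isCartan w (vec chevE8 8 s') →
    X (Sum.inr s) (Sum.inr s') = 0

theorem rep_eq_sum (v : CoxeterMatrix.E₈.Group) (x : Fin 8 → ℤ) (i : Fin 8) :
    rep cs₈ hp.isCartan v x i = ∑ c, rep cs₈ hp.isCartan v (sr c) i * x c := by
  have h1 : x = ∑ c, x c • (sr c : Fin 8 → ℤ) := by
    funext i
    rw [Finset.sum_apply]
    simp [sr, Pi.single_apply]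
  conv_lhs => rw [h1, map_sum]
  rw [Finset.sum_apply]
  refine Finset.sum_congr rfl fun j _ => ?_
  rw [map_smul, Pi.smul_apply, smul_eq_mul, mul_comm]

variable {hp}

theorem Mono.mul {v w : CoxeterMatrix.E₈.Group} {X Y : Matrix chevE8.Idx chevE8.Idx k} (hX : Mono hp v X)
    (hY : Mono hp w Y) : Mono hp (v * w) (X * Y) where
  ll i j := by
    rw [Matrix.mul_apply, Fintype.sum_sum_type]
    have h1 : ∀ s : Fin chevE8.nroots, X (Sum.inl i) (Sum.inr s) * Y (Sum.inr s) (Sum.inl j) = 0 := fun s => by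
      rw [hX.lr i s, zero_mul]
    have h2 : ∀ c : Fin chevE8.rank, X (Sum.inl i) (Sum.inl c) * Y (Sum.inl c) (Sum.inl j) =
        ((rep cs₈ hp.isCartan v (sr (f8 c)) (f8 i) * rep cs₈ hp.isCartan w (sr (f8 j)) (f8 c) : ℤ) : k) := fun c => by
      rw [hX.ll, hY.ll, Int.cast_mul]
    rw [Finset.sum_congr rfl fun s _ => h1 s, Finset.sum_const_zero, add_zero, Finset.sum_congr rfl fun c _ => h2 c,
      sum_f8 fun c => ((rep cs₈ hp.isCartan v (sr c) (f8 i) * rep cs₈ hp.isCartan w (sr (f8 j)) c : ℤ) : k),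
      ← Int.cast_sum, ← rep_eq_sum hp, rep_mul_apply]
  rl s j := by
    rw [Matrix.mul_apply, Fintype.sum_sum_type]
    have h1 : ∀ c : Fin chevE8.rank, X (Sum.inr s) (Sum.inl c) * Y (Sum.inl c) (Sum.inl j) = 0 := fun c => by
      rw [hX.rl s c, zero_mul]
    have h2 : ∀ u : Fin chevE8.nroots, X (Sum.inr s) (Sum.inr u) * Y (Sum.inr u) (Sum.inl j) = 0 := fun u => by
      rw [hY.rl u j, mul_zero]
    rw [Finset.sum_congr rfl fun c _ => h1 c, Finset.sum_congr rfl fun u _ => h2 u, Finset.sum_const_zero,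
      Finset.sum_const_zero, add_zero]
  lr j s := by
    rw [Matrix.mul_apply, Fintype.sum_sum_type]
    have h1 : ∀ c : Fin chevE8.rank, X (Sum.inl j) (Sum.inl c) * Y (Sum.inl c) (Sum.inr s) = 0 := fun c => by
      rw [hY.lr c s, mul_zero]
    have h2 : ∀ u : Fin chevE8.nroots, X (Sum.inl j) (Sum.inr u) * Y (Sum.inr u) (Sum.inr s) = 0 := fun u => by
      rw [hX.lr j u, zero_mul]
    rw [Finset.sum_congr rfl fun c _ => h1 c, Finset.sum_congr rfl fun u _ => h2 u, Finset.sum_const_zero,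
      Finset.sum_const_zero, add_zero]
  rr s s' hs := by
    rw [Matrix.mul_apply, Fintype.sum_sum_type]
    have h1 : ∀ c : Fin chevE8.rank, X (Sum.inr s) (Sum.inl c) * Y (Sum.inl c) (Sum.inr s') = 0 := fun c => by
      rw [hX.rl s c, zero_mul]
    have h2 : ∀ u : Fin chevE8.nroots, X (Sum.inr s) (Sum.inr u) * Y (Sum.inr u) (Sum.inr s') = 0 := fun u => by
      by_cases h3 : vec chevE8 8 u = rep cs₈ hp.isCartan w (vec chevE8 8 s')
      · rw [hX.rr s u (fun h4 => hs (by rw [rep_mul_apply, ← h3]; exact h4)), zero_mul]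
      · rw [hY.rr u s' h3, mul_zero]
    rw [Finset.sum_congr rfl fun c _ => h1 c, Finset.sum_congr rfl fun u _ => h2 u, Finset.sum_const_zero,
      Finset.sum_const_zero, add_zero]

variable (hp)

theorem mono_diagonal (d : chevE8.Idx → k) (hd : ∀ i : Fin chevE8.rank, d (Sum.inl i) = 1) :
    Mono hp 1 (Matrix.diagonal d) where
  ll i j := by
    rw [map_one, Module.End.one_apply]
    by_cases h : i = j
    · subst h
      rw [Matrix.diagonal_apply_eq, hd]
      simp [sr]
    · rw [Matrix.diagonal_apply_ne _ (fun h1 => h (Sum.inl_injective h1)), sr_ne fun h2 => h (f8_inj h2), Int.cast_zero]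
  rl s j := Matrix.diagonal_apply_ne _ (by simp)
  lr j s := Matrix.diagonal_apply_ne _ (by simp)
  rr s s' hs := by
    rw [map_one, Module.End.one_apply] at hs
    exact Matrix.diagonal_apply_ne _ (fun h1 => hs (by rw [Sum.inr_injective h1]))

theorem mono_one : Mono hp 1 (1 : Matrix chevE8.Idx chevE8.Idx k) := by
  rw [← Matrix.diagonal_one]
  exact mono_diagonal hp _ fun _ => rfl

theorem facts_E8 (i : Fin 8) : NSimple.Facts chevE8 i := NSimpleAll.facts (by simp) i.2

theorem cartan_symm : ∀ i j : Fin 8, chevE8.cartan j (chevE8.simple i) = cartanOf chevE8 8 i j := by decide +kernel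

theorem mono_nc (i : Fin 8) :
    Mono hp (CoxeterSystem.simple cs₈ i) ((nc hp k i : GL chevE8.Idx k) : Matrix chevE8.Idx chevE8.Idx k) := by
  have e : ((nc hp k i : GL chevE8.Idx k) : Matrix chevE8.Idx chevE8.Idx k) = chevE8.nMat k (chevE8.simple i) 1 :=
    coe_nG hp.inList _ _
  rw [e]
  constructor
  · intro a b
    rw [NSimple.nMat_apply_inl k (facts_E8 i), Sum.elim_inl, rep_simple_eq]
    have h1 : pairing (cartanOf chevE8 8) i (sr (f8 b)) = cartanOf chevE8 8 i (f8 b) := by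
      unfold pairing
      simp [sr, Pi.single_apply]
    rw [h1, Pi.sub_apply, Pi.smul_apply, smul_eq_mul, ← cartan_symm, f8_val]
    have e2 : ((a : ℕ) = (i : ℕ)) ↔ f8 a = i := Fin.ext_iff.symm
    have e3 : (sr (f8 b) : Fin 8 → ℤ) (f8 a) = if a = b then 1 else 0 := by
      by_cases h : a = b
      · rw [if_pos h, h]
        exact sr_self _
      · rw [if_neg h]
        exact sr_ne fun h2 => h (f8_inj h2)
    have e4 : (sr i : Fin 8 → ℤ) (f8 a) = if (a : ℕ) = (i : ℕ) then 1 else 0 := by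
      by_cases h : (a : ℕ) = (i : ℕ)
      · rw [if_pos h, e2.1 h]
        exact sr_self _
      · rw [if_neg h]
        exact sr_ne fun h2 => h (e2.2 h2)
    rw [e3, e4]
    split_ifs <;> simp
  · intro s j
    rw [NSimple.nMat_apply_inl k (facts_E8 i), Sum.elim_inr]
  · intro j s
    rw [NSimple.nMat_apply_inr k (facts_E8 i), Sum.elim_inl]
  · intro s s' hs
    rw [NSimple.nMat_apply_inr k (facts_E8 i), Sum.elim_inr, if_neg]
    intro h1
    apply hs
    rw [h1]
    exact (rep_vec hp cs₈ i s'.2).symm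

section Rp

variable (p : ℕ) [Fact p.Prime] [CharP k p] (hk : LocFin k)

include hk p in
theorem mono_TT {t : ↥(chevE8.group k)} (ht : t ∈ TT chevE8 k) :
    Mono hp 1 ((t : GL chevE8.Idx k) : Matrix chevE8.Idx chevE8.Idx k) := by
  rw [H892.El.coe_TT hp (r := p) hk ht]
  exact mono_diagonal hp _ fun _ => rfl

theorem mono_of_rp {w : CoxeterMatrix.E₈.Group} {n : ↥(chevE8.group k)}
    (hn : Rp cs₈ (tow hp cs₈ hk p).nsys w n) :
    Mono hp w ((n : GL chevE8.Idx k) : Matrix chevE8.Idx chevE8.Idx k) := by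
  have key : ∀ ω : List (Fin 8), ∃ m : ↥(chevE8.group k),
      Rp cs₈ (tow hp cs₈ hk p).nsys (CoxeterSystem.wordProd cs₈ ω) m ∧
      Mono hp (CoxeterSystem.wordProd cs₈ ω) ((m : GL chevE8.Idx k) : Matrix chevE8.Idx chevE8.Idx k) := by
    intro ω
    induction ω with
    | nil =>
      refine ⟨1, ?_, ?_⟩
      · rw [wordProd_nil]
        exact rp_one
      · rw [wordProd_nil]
        exact mono_one hp
    | cons i ω ih =>
      obtain ⟨m, h1, h2⟩ := ih
      refine ⟨nc hp k i * m, ?_, ?_⟩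
      · rw [wordProd_cons]
        exact (rp_simple _ _ i).mul h1
      · rw [wordProd_cons]
        exact (mono_nc hp i).mul h2
  obtain ⟨ω, rfl⟩ := CoxeterSystem.wordProd_surjective cs₈ w
  obtain ⟨m, h1, h2⟩ := key ω
  have h3 := h1.unique hn
  rw [TL_eq hp hk] at h3
  have h4 := h2.mul (mono_TT hp p hk h3)
  rw [mul_one] at h4
  have h5 : m * (m⁻¹ * n) = n := by group
  rw [← Units.val_mul, ← Subgroup.coe_mul, h5] at h4
  exact h4

include hk p in
/-- the trace of a monomial element times a torus element -/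
theorem trace_mul_TT {w : CoxeterMatrix.E₈.Group} {n : ↥(chevE8.group k)}
    (hn : Mono hp w ((n : GL chevE8.Idx k) : Matrix chevE8.Idx chevE8.Idx k)) {t : ↥(chevE8.group k)}
    (ht : t ∈ TT chevE8 k) :
    trL chevE8 (n * t) = ((∑ j : Fin 8, rep cs₈ hp.isCartan w (sr j) j : ℤ) : k) +
      ∑ s : Fin chevE8.nroots, ((n : GL chevE8.Idx k) : Matrix chevE8.Idx chevE8.Idx k) (Sum.inr s) (Sum.inr s) *
        ch hp (vec chevE8 8 s) t := by
  unfold trL
  rw [Subgroup.coe_mul, Units.val_mul, H892.El.coe_TT hp (r := p) hk ht]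
  unfold Matrix.trace
  rw [Fintype.sum_sum_type]
  simp only [Matrix.diag_apply, Matrix.mul_diagonal]
  congr 1
  · have h1 : ∀ j : Fin chevE8.rank, ((n : GL chevE8.Idx k) : Matrix chevE8.Idx chevE8.Idx k) (Sum.inl j) (Sum.inl j) *
        H892.El.dd hp t (Sum.inl j) = ((rep cs₈ hp.isCartan w (sr (f8 j)) (f8 j) : ℤ) : k) := fun j => by
      rw [hn.ll]
      exact mul_one _
    rw [Finset.sum_congr rfl fun j _ => h1 j, sum_f8 fun c => ((rep cs₈ hp.isCartan w (sr c) c : ℤ) : k), Int.cast_sum]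

theorem sum_d4 : ∑ j : Fin 8, ((sr j : Fin 8 → ℤ) j + d4 j j) = 0 := by decide +kernel

include hk in
/-- **P4** -/
theorem P4 (hp2 : p ≠ 2) {w : CoxeterMatrix.E₈.Group} {n : ↥(chevE8.group k)}
    (hn : Rp CoxeterMatrix.E₈.toCoxeterSystem (tow hp CoxeterMatrix.E₈.toCoxeterSystem hk p).nsys w n)
    (hw : ∀ j, wv hp.isCartan w (sr j) = sr j + d4 j) {z z' : ↥(chevE8.group k)} (hz : z ∈ TT chevE8 k)
    (hz' : z' ∈ TT chevE8 k) (h1 : z * z = 1) (h2 : z' * z' = 1)
    (hno : ∀ b, rt' hp.isCartan b → wv hp.isCartan w b = b →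
      ch hp b z ≠ 1 ∨ ch hp b z' ≠ 1) :
    trL chevE8 n + trL chevE8 (n * z) + trL chevE8 (n * z') + trL chevE8 (n * (z * z')) = 0 := by
  have hm := mono_of_rp hp p hk hn
  have h0 : ∑ j : Fin 8, rep cs₈ hp.isCartan w (sr j) j = 0 := by
    have e : ∀ j : Fin 8, rep cs₈ hp.isCartan w (sr j) j = (sr j : Fin 8 → ℤ) j + d4 j j := fun j => by
      have := congrFun (hw j) j
      exact this
    rw [Finset.sum_congr rfl fun j _ => e j, sum_d4]
  have C := coordsL (k := k) hp cs₈ hk p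
  have hmul : ∀ (s : Fin chevE8.nroots) {x y : ↥(chevE8.group k)}, x ∈ TT chevE8 k → y ∈ TT chevE8 k →
      ch hp (vec chevE8 8 s) (x * y) = ch hp (vec chevE8 8 s) x * ch hp (vec chevE8 8 s) y := fun s x y hx hy =>
    (C.coord _ (isRoot_vec hp cs₈ s.2)).chi_mul hx hy
  have hone : ∀ s : Fin chevE8.nroots, ch hp (vec chevE8 8 s) (1 : ↥(chevE8.group k)) = 1 := fun s => by
    have h1 := hmul s (one_mem (TT chevE8 k)) (one_mem _)
    rw [mul_one] at h1
    exact (mul_eq_left₀ ((C.coord _ (isRoot_vec hp cs₈ s.2)).chi_ne_zero (one_mem _))).1 h1.symm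
  have e1 := trace_mul_TT hp p hk hm (one_mem (TT chevE8 k))
  rw [mul_one] at e1
  rw [e1, trace_mul_TT hp p hk hm hz, trace_mul_TT hp p hk hm hz', trace_mul_TT hp p hk hm (mul_mem hz hz'), h0,
    Int.cast_zero, zero_add, zero_add, zero_add, zero_add, ← Finset.sum_add_distrib, ← Finset.sum_add_distrib,
    ← Finset.sum_add_distrib]
  refine Finset.sum_eq_zero fun s _ => ?_
  rw [hone, hmul s hz hz']
  by_cases hs : vec chevE8 8 s = rep cs₈ hp.isCartan w (vec chevE8 8 s)
  · have g1 : (ch hp (vec chevE8 8 s) z - 1) * (ch hp (vec chevE8 8 s) z + 1) = 0 := by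
      have := hmul s hz hz
      rw [h1, hone] at this
      linear_combination -this
    have g2 : (ch hp (vec chevE8 8 s) z' - 1) * (ch hp (vec chevE8 8 s) z' + 1) = 0 := by
      have := hmul s hz' hz'
      rw [h2, hone] at this
      linear_combination -this
    rcases hno _ (isRoot_vec hp cs₈ s.2) hs.symm with g3 | g3
    · have g4 := (mul_eq_zero.1 g1).resolve_left (sub_ne_zero.2 g3)
      have g5 := eq_neg_of_add_eq_zero_left g4
      rw [g5]
      ring
    · have g4 := (mul_eq_zero.1 g2).resolve_left (sub_ne_zero.2 g3)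
      have g5 := eq_neg_of_add_eq_zero_left g4
      rw [g5]
      ring
  · rw [hm.rr s s hs]
    ring

end Rp

end Cfsg.Agent.H582.KKL
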